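import Mathlib.LinearAlgebra.RootSystem.Defs
import Mathlib.LinearAlgebra.QuadraticForm.Basic
import Mathlib.LinearAlgebra.Projection

/-! Reflection-invariant quadratic forms on the coweight module of a root pairing. -/

universe u v w x

namespace Groth.Agent.RootQuad

variable {ι : Type u} {R : Type v} {M : Type w} {N : Type x} [CommRing R] [IsDomain R] [CharZero R]
  [AddCommGroup M] [Module R M] [AddCommGroup N] [Module R N] (P : RootPairing ι R M N)

lemma coreflection_apply' (j : ι) (y : N) : P.coreflection j y = y - P.root' j y • P.coroot j :=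
  P.coreflection_apply j y

lemma root'_coroot (j : ι) : P.root' j (P.coroot j) = 2 := P.root_coroot_two j

/-- On a submodule containing the coroot, invariance under the reflection is a condition on the polar form. -/
theorem invariant_iff (Q : QuadraticMap R N R) (j : ι) (S : Submodule R N) (hS : P.coroot j ∈ S) :
    (∀ y ∈ S, Q (P.coreflection j y) = Q y) ↔
      ∀ y ∈ S, QuadraticMap.polar Q y (P.coroot j) = P.root' j y * Q (P.coroot j) := by
  have h : ∀ y, Q (P.coreflection j y) - Q y = P.root' j y *
      (P.root' j y * Q (P.coroot j) - QuadraticMap.polar Q y (P.coroot j)) := by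
    intro y
    rw [coreflection_apply', show y - P.root' j y • P.coroot j = y + (-P.root' j y) • P.coroot j by
      rw [neg_smul, ← sub_eq_add_neg], QuadraticMap.map_add Q, Q.map_smul, QuadraticMap.polar_smul_right]
    simp only [smul_eq_mul]
    ring
  constructor
  · intro hinv y hy
    have key : ∀ z ∈ S, P.root' j z ≠ 0 →
        QuadraticMap.polar Q z (P.coroot j) = P.root' j z * Q (P.coroot j) := fun z hz hne => by
      have := h z
      rw [hinv z hz, sub_self] at this
      exact (sub_eq_zero.1 ((mul_eq_zero.1 this.symm).resolve_left hne)).symm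
    by_cases hc : P.root' j y = 0
    · have h2 := key (y + P.coroot j) (add_mem hy hS) (by rw [map_add, hc, root'_coroot]; norm_num)
      rw [QuadraticMap.polar_add_left, QuadraticMap.polar_self, map_add, root'_coroot, hc, zero_add,
        nsmul_eq_mul, Nat.cast_ofNat] at h2
      rw [hc, zero_mul]
      linear_combination h2
    · exact key y hy hc
  · intro hp y hy
    have := h y
    rw [hp y hy, sub_self, mul_zero] at this
    exact sub_eq_zero.1 this

theorem invariant_iff' (Q : QuadraticMap R N R) (j : ι) :
    (∀ y : N, Q (P.coreflection j y) = Q y) ↔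
      ∀ y : N, QuadraticMap.polar Q y (P.coroot j) = P.root' j y * Q (P.coroot j) := by
  simpa using invariant_iff P Q j ⊤ trivial

variable {D Y₀ : Submodule R N}

/-- An invariant form vanishing on `D` and on a complement is zero. -/
theorem eq_zero_of_invariant (hD : ∀ i, P.coroot i ∈ D)
    (hDsat : ∀ y ∈ D, ∃ n : ℕ, 0 < n ∧ n • y ∈ Submodule.span R (Set.range P.coroot))
    (hc : IsCompl Y₀ D) (Q : QuadraticMap R N R) (hQ : ∀ i y, Q (P.coreflection i y) = Q y)
    (hQD : ∀ y ∈ D, Q y = 0) (hQY : ∀ y ∈ Y₀, Q y = 0) : Q = 0 := by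
  refine QuadraticMap.ext fun z => ?_
  obtain ⟨y, hy, d, hd, rfl⟩ := Submodule.mem_sup.1 (show z ∈ Y₀ ⊔ D by rw [hc.sup_eq_top]; trivial)
  rw [QuadraticMap.map_add Q, hQY y hy, hQD d hd, zero_add, zero_add, QuadraticMap.zero_apply]
  obtain ⟨n, hn, hmem⟩ := hDsat d hd
  have h0 : ∀ w ∈ Submodule.span R (Set.range P.coroot), QuadraticMap.polar Q y w = 0 := by
    intro w hw
    induction hw using Submodule.span_induction with
    | mem a ha =>
      obtain ⟨i, rfl⟩ := ha
      rw [(invariant_iff' P Q i).1 (hQ i), hQD _ (hD i), mul_zero]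
    | zero => rw [QuadraticMap.polar_zero_right]
    | add a b _ _ ha hb => rw [QuadraticMap.polar_add_right, ha, hb, add_zero]
    | smul c a _ ha => rw [QuadraticMap.polar_smul_right, ha, smul_zero]
  have := h0 _ hmem
  rw [← Nat.cast_smul_eq_nsmul R, QuadraticMap.polar_smul_right, smul_eq_mul] at this
  exact (mul_eq_zero.1 this).resolve_left (Nat.cast_ne_zero.2 hn.ne')

end Groth.Agent.RootQuad
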